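import Groth.Agent.H06EGA9.FlatLocallyConstructible
import Groth.Agent.H06EGA9.FlatFibreBC
import Groth.Agent.H8Props.FlatLocus.Sections
import Groth.Agent.H10Coh.OpenSpec
import Groth.Agent.H8Props.FinLocFree.Sheaf
import Mathlib

/-!
# From models of modules to models of quasi-coherent sheaves
-/

set_option autoImplicit false
set_option linter.style.haveILetI false
set_option backward.isDefEq.respectTransparency false
set_option backward.defeqAttrib.useBackward true
universe u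

open AlgebraicGeometry CategoryTheory CategoryTheory.Limits TopologicalSpace Opposite TensorProduct

namespace Groth.Agent.H8Props.ModuleModel

/-- Flatness of a tilde module over the base is flatness of the module. -/
theorem flat_tilde_iff (A B : Type u) [CommRing A] [CommRing B] [Algebra A B] (M : Type u)
    [AddCommGroup M] [Module B M] [Module A M] [IsScalarTower A B M] :
    FlatMod.IsFlatOver (Spec.map (CommRingCat.ofHom (algebraMap A B)))
      (tilde (R := CommRingCat.of B) (ModuleCat.of B M)) ↔ Module.Flat A M := by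
  let f := Spec.map (CommRingCat.ofHom (algebraMap A B))
  let N := tilde (R := CommRingCat.of B) (ModuleCat.of B M)
  have hle : (⊤ : (Spec (CommRingCat.of B)).Opens) ≤ f ⁻¹ᵁ ⊤ := le_top
  have h := FlatLocus.flat_sections_over_iff f N (inferInstanceAs N.IsQuasicoherent)
    (isAffineOpen_top _) (isAffineOpen_top _) hle
  letI := Module.compHom Γ(N, ⊤) (f.appLE ⊤ ⊤ hle).hom
  have key : Module.Flat A M ↔ Module.Flat Γ(Spec (CommRingCat.of A), ⊤) Γ(N, ⊤) := by
    refine H06EGA9.flat_iff_of_semilinear (Scheme.ΓSpecIso (CommRingCat.of A)).inv.hom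
      (ConcreteCategory.bijective_of_isIso (Scheme.ΓSpecIso (CommRingCat.of A)).inv)
      (tilde.toOpen (R := CommRingCat.of B) (ModuleCat.of B M) ⊤).hom.toAddMonoidHom
      (haveI := tilde.isIso_toOpen_top (R := CommRingCat.of B) (M := ModuleCat.of B M)
      ConcreteCategory.bijective_of_isIso (tilde.toOpen (R := CommRingCat.of B) (ModuleCat.of B M) ⊤)) ?_
    intro r m
    rw [show r • m = algebraMap A B r • m from (algebraMap_smul B r m).symm]
    refine ((tilde.toOpen (R := CommRingCat.of B) (ModuleCat.of B M) ⊤).hom.map_smul (algebraMap A B r) m).trans ?_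
    have h2 := Scheme.Modules.smul_Spec_def (M := N) (U := ⊤) (algebraMap A B r)
      ((tilde.toOpen (R := CommRingCat.of B) (ModuleCat.of B M) ⊤).hom m)
    rw [Subsingleton.elim (⊤ : (Spec (CommRingCat.of B)).Opens).leTop.op (𝟙 _),
      CategoryTheory.Functor.map_id] at h2
    refine h2.trans (congrArg (fun (z : Γ(Spec (CommRingCat.of B), ⊤)) =>
      z • (show Γ(N, ⊤) from (tilde.toOpen (R := CommRingCat.of B) (ModuleCat.of B M) ⊤).hom m)) ?_)
    have e := congrArg (fun g => g r) (Scheme.ΓSpecIso_inv_naturality (CommRingCat.ofHom (algebraMap A B)))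
    refine e.trans ?_
    show _ = (f.appLE ⊤ ⊤ hle) _
    simp [f, Scheme.Hom.appLE]
  rw [key, h]
  exact ⟨fun H x => H x.1, fun H x => H ⟨x, trivial⟩⟩

/-- Models of the sections give models of the sheaf. -/
theorem exists_model {X S : Scheme.{u}} (f : X ⟶ S) [IsAffine X] [IsAffine S]
    (F : X.Modules) (hq : Coh.IsQCoh F) (hF : CohB1.IsFP F)
    (hmod : ∀ (M : Type u) [AddCommGroup M] [Module Γ(X, ⊤) M] [Module.FinitePresentation Γ(X, ⊤) M]
      [Module Γ(S, ⊤) M],
      (letI := f.appTop.hom.toAlgebra; IsScalarTower Γ(S, ⊤) Γ(X, ⊤) M) →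
      ∃ (R₀ : Type u) (_ : CommRing R₀) (S₀ : Type u) (_ : CommRing S₀) (_ : Algebra R₀ S₀)
        (a : R₀ →+* Γ(S, ⊤)) (b : S₀ →+* Γ(X, ⊤)) (M₀ : Type u) (_ : AddCommGroup M₀) (_ : Module S₀ M₀)
        (_ : Module R₀ M₀) (_ : IsScalarTower R₀ S₀ M₀),
        Algebra.FiniteType ℤ R₀ ∧ Algebra.FiniteType R₀ S₀ ∧ Module.Finite S₀ M₀ ∧
        IsPullback (Spec.map (CommRingCat.ofHom b)) (Spec.map f.appTop)
          (Spec.map (CommRingCat.ofHom (algebraMap R₀ S₀))) (Spec.map (CommRingCat.ofHom a)) ∧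
        Nonempty (letI := b.toAlgebra; Γ(X, ⊤) ⊗[S₀] M₀ ≃ₗ[Γ(X, ⊤)] M) ∧
        (Module.Flat Γ(S, ⊤) M → Module.Flat R₀ M₀)) :
    ∃ (X₀ S₀ : Scheme.{u}) (f₀ : X₀ ⟶ S₀) (g : S ⟶ S₀) (g' : X ⟶ X₀), IsAffine X₀ ∧ IsAffine S₀ ∧ IsPullback g' f f₀ g ∧
      Algebra.FiniteType ℤ Γ(S₀, ⊤) ∧ LocallyOfFiniteType f₀ ∧
      ∃ F₀ : X₀.Modules, Coh.IsCoh F₀ ∧ (FlatMod.IsFlatOver f F → FlatMod.IsFlatOver f₀ F₀) ∧
        Nonempty ((Scheme.Modules.pullback g').obj F₀ ≅ F) := by
  obtain ⟨M, hM, ⟨e⟩⟩ := H06EGA9.exists_tilde_pullback_fromSpec hq (isAffineOpen_top X)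
    (FinLocFree.finitePresentation_sections F hF (isAffineOpen_top X))
  have hfs : (isAffineOpen_top X).fromSpec = X.isoSpec.inv := IsAffineOpen.fromSpec_top
  let e' : (Scheme.Modules.pullback X.isoSpec.inv).obj F ≅ tilde M :=
    (Scheme.Modules.pullbackCongr hfs.symm).app F ≪≫ e
  letI := f.appTop.hom.toAlgebra
  letI : Module Γ(S, ⊤) M := Module.compHom M f.appTop.hom
  haveI : IsScalarTower Γ(S, ⊤) Γ(X, ⊤) M := .of_algebraMap_smul fun _ _ => rfl
  obtain ⟨R₀, _, S₀, _, _, a, b, M₀, _, _, _, _, hR, hS, hM₀, hpb, ⟨eM⟩, hfl⟩ := hmod M this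
  haveI := hM₀
  let eT : (Scheme.Modules.pullback (Spec.map (CommRingCat.ofHom b))).obj
      (tilde (R := CommRingCat.of S₀) (ModuleCat.of S₀ M₀)) ≅ tilde M :=
    H06EGA9.pullbackTildeOfEquiv b M₀ M eM
  refine ⟨Spec (CommRingCat.of S₀), Spec (CommRingCat.of R₀),
    Spec.map (CommRingCat.ofHom (algebraMap R₀ S₀)), S.isoSpec.hom ≫ Spec.map (CommRingCat.ofHom a),
    X.isoSpec.hom ≫ Spec.map (CommRingCat.ofHom b), inferInstance, inferInstance, ?_, ?_, ?_,
    tilde (R := CommRingCat.of S₀) (ModuleCat.of S₀ M₀), H10Coh.isCoh_tilde _, ?_, ⟨?_⟩⟩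
  · refine hpb.of_iso X.isoSpec.symm (Iso.refl _) S.isoSpec.symm (Iso.refl _) ?_ ?_ ?_ ?_
    · simp
    · exact Scheme.isoSpec_inv_naturality f
    · simp
    · simp
  · exact Algebra.FiniteType.equiv hR
      (Scheme.ΓSpecIso (CommRingCat.of R₀)).symm.commRingCatIsoToRingEquiv.toIntAlgEquiv
  · exact (HasRingHomProperty.Spec_iff (P := @LocallyOfFiniteType)).mpr
      (RingHom.finiteType_algebraMap.mpr hS)
  · intro hflat
    refine (flat_tilde_iff R₀ S₀ M₀).mpr (hfl ((flat_tilde_iff Γ(S, ⊤) Γ(X, ⊤) M).mp fun x => ?_))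
    have hc : IsPullback X.isoSpec.inv (Spec.map f.appTop) f S.isoSpec.inv :=
      IsPullback.of_horiz_isIso ⟨(Scheme.isoSpec_inv_naturality f).symm⟩
    have := H06EGA9.isFlatOverAt_of_isPullback hc F x (hflat _)
    exact (H06EGA9.isFlatOverAt_congr_iso _ e' x).mp this
  · exact (Scheme.Modules.pullbackComp X.isoSpec.hom (Spec.map (CommRingCat.ofHom b))).symm.app _ ≪≫
      (Scheme.Modules.pullback X.isoSpec.hom).mapIso (eT ≪≫ e'.symm) ≪≫
      (Scheme.Modules.pullbackComp X.isoSpec.hom X.isoSpec.inv).app F ≪≫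
      (Scheme.Modules.pullbackCongr X.isoSpec.hom_inv_id).app F ≪≫
      (Scheme.Modules.pullbackId X).app F

end Groth.Agent.H8Props.ModuleModel
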